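import Mathlib

/-!
The right derived functors of `Hom(P, -)` are `Ext^n(P, -)`, naturally.
-/

set_option autoImplicit false

universe v u

open CategoryTheory CategoryTheory.Limits Opposite CategoryTheory.Abelian

namespace Groth.Agent.DerExt

variable {C : Type u} [Category.{v} C] [Abelian C] [HasExt.{v} C] (P : C)

theorem extMk_congr {Y : C} (R : InjectiveResolution Y) {n : ℕ} {f g : P ⟶ R.cocomplex.X n}
    (hf : f ≫ R.cocomplex.d n (n + 1) = 0) (hg : g ≫ R.cocomplex.d n (n + 1) = 0) (h : f = g) :
    R.extMk f (n + 1) rfl hf = R.extMk g (n + 1) rfl hg := by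
  subst h; rfl

section

variable {Y : C} (R : InjectiveResolution Y)

/-- `Hom(P, R)`. -/
noncomputable abbrev homCx : CochainComplex AddCommGrpCat.{v} ℕ :=
  ((preadditiveCoyoneda.obj (op P)).mapHomologicalComplex (ComplexShape.up ℕ)).obj R.cocomplex

/-- The map underlying a cycle. -/
noncomputable def cycHom (n : ℕ) (z : (homCx P R).cycles n) : P ⟶ R.cocomplex.X n :=
  (homCx P R).iCycles n z

theorem cycHom_d (n : ℕ) (z : (homCx P R).cycles n) : cycHom P R n z ≫ R.cocomplex.d n (n + 1) = 0 :=
  ConcreteCategory.congr_hom ((homCx P R).iCycles_d n (n + 1)) z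

theorem cycHom_add (n : ℕ) (a b : (homCx P R).cycles n) :
    cycHom P R n (a + b) = cycHom P R n a + cycHom P R n b :=
  map_add ((homCx P R).iCycles n).hom a b

theorem cycHom_injective (n : ℕ) : Function.Injective (cycHom P R n) :=
  (AddCommGrpCat.mono_iff_injective ((homCx P R).iCycles n)).mp inferInstance

theorem exists_cycle {n : ℕ} (f : P ⟶ R.cocomplex.X n) (hf : f ≫ R.cocomplex.d n (n + 1) = 0) :
    ∃ z, cycHom P R n z = f := by
  let F : AddCommGrpCat.of (ULift.{v} ℤ) ⟶ (homCx P R).X n :=
    AddCommGrpCat.ofHom ((zmultiplesHom (P ⟶ R.cocomplex.X n) f).comp AddEquiv.ulift.toAddMonoidHom)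
  have h : F ≫ (homCx P R).d n (n + 1) = 0 := by
    ext ⟨m⟩
    show (m • f) ≫ R.cocomplex.d n (n + 1) = 0
    rw [Preadditive.zsmul_comp, hf, smul_zero]
  refine ⟨(homCx P R).liftCycles F (n + 1) (by simp) h ⟨1⟩, ?_⟩
  exact (ConcreteCategory.congr_hom ((homCx P R).liftCycles_i F (n + 1) (by simp) h) ⟨1⟩).trans (one_smul ℤ f)

/-- The class of a cycle. -/
noncomputable def cycClass (n : ℕ) (z : (homCx P R).cycles n) : Ext P Y n :=
  R.extMk (cycHom P R n z) (n + 1) rfl (cycHom_d P R n z)

/-- The class map. -/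
noncomputable def classMap (n : ℕ) : (homCx P R).cycles n ⟶ AddCommGrpCat.of (Ext P Y n) :=
  AddCommGrpCat.ofHom (AddMonoidHom.mk' (cycClass P R n) fun a b =>
    (extMk_congr P R _ _ (cycHom_add P R n a b)).trans (R.add_extMk _ _ _ _ (cycHom_d P R n a) (cycHom_d P R n b)).symm)

theorem toCycles_classMap (i n : ℕ) : (homCx P R).toCycles i n ≫ classMap P R n = 0 := by
  by_cases hi : i + 1 = n
  · subst hi
    ext x
    change cycClass P R (i + 1) ((homCx P R).toCycles i (i + 1) x) = 0
    rw [cycClass, R.extMk_eq_zero_iff _ _ _ _ i rfl]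
    exact ⟨x, (ConcreteCategory.congr_hom ((homCx P R).toCycles_i i (i + 1)) x).symm⟩
  · rw [show (homCx P R).toCycles i n = 0 by
      rw [← cancel_mono ((homCx P R).iCycles n), HomologicalComplex.toCycles_i, zero_comp]
      exact (homCx P R).shape _ _ hi, zero_comp]

/-- Homology of `Hom(P, R)` maps to `Ext`. -/
noncomputable def homologyToExt (n : ℕ) : (homCx P R).homology n ⟶ AddCommGrpCat.of (Ext P Y n) :=
  ((homCx P R).homologyIsCokernel ((ComplexShape.up ℕ).prev n) n rfl).desc
    (CokernelCofork.ofπ (classMap P R n) (toCycles_classMap P R _ n))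

theorem homologyπ_homologyToExt (n : ℕ) : (homCx P R).homologyπ n ≫ homologyToExt P R n = classMap P R n :=
  ((homCx P R).homologyIsCokernel ((ComplexShape.up ℕ).prev n) n rfl).fac _ WalkingParallelPair.one

theorem homologyToExt_π (n : ℕ) (z : (homCx P R).cycles n) :
    homologyToExt P R n ((homCx P R).homologyπ n z) = cycClass P R n z :=
  ConcreteCategory.congr_hom (homologyπ_homologyToExt P R n) z

theorem eq_zero_of_extMk_eq_zero (f : P ⟶ R.cocomplex.X 0) (hf : f ≫ R.cocomplex.d 0 1 = 0)
    (h : R.extMk f 1 rfl hf = 0) : f = 0 := by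
  have h' := (R.extEquivCohomologyClass_extMk f 1 rfl hf).symm.trans
    ((congrArg R.extEquivCohomologyClass h).trans (R.extEquivCohomologyClass_zero P 0))
  rw [CochainComplex.HomComplex.CohomologyClass.mk_eq_zero_iff,
    CochainComplex.HomComplex.Cocycle.fromSingleMk_mem_coboundaries_iff _ _ _ _ _ (-1) (by simp)] at h'
  obtain ⟨g, hg⟩ := h'
  have : g = 0 := (R.cochainComplex.isZero_of_isStrictlyGE 0 (-1) (by simp)).eq_of_tgt _ _
  rw [this, zero_comp] at hg
  rw [← cancel_mono (R.cochainComplexXIso 0 0 rfl).inv, zero_comp]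
  exact hg.symm

theorem homologyToExt_bijective (n : ℕ) : Function.Bijective (homologyToExt P R n) := by
  have hπ : Function.Surjective ((homCx P R).homologyπ n) := (AddCommGrpCat.epi_iff_surjective _).mp inferInstance
  refine ⟨(injective_iff_map_eq_zero (homologyToExt P R n).hom).mpr fun y hy => ?_, fun x => ?_⟩
  · obtain ⟨z, rfl⟩ := hπ y
    have hy' : cycClass P R n z = 0 := (homologyToExt_π P R n z).symm.trans hy
    rcases n with _ | p
    · have hz : cycHom P R 0 z = cycHom P R 0 0 :=
        (eq_zero_of_extMk_eq_zero P R _ (cycHom_d P R 0 z) hy').trans (map_zero ((homCx P R).iCycles 0).hom).symm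
      rw [cycHom_injective P R 0 hz]
      exact map_zero _
    · obtain ⟨g, hg⟩ := (R.extMk_eq_zero_iff _ (p + 1 + 1) rfl (cycHom_d P R (p + 1) z) p rfl).mp hy'
      have hz : (homCx P R).toCycles p (p + 1) g = z := cycHom_injective P R (p + 1)
        ((ConcreteCategory.congr_hom ((homCx P R).toCycles_i p (p + 1)) g).trans hg)
      rw [← hz]
      exact ConcreteCategory.congr_hom ((homCx P R).toCycles_comp_homologyπ p (p + 1)) g
  · obtain ⟨f, hf, rfl⟩ := R.extMk_surjective (X := P) x (n + 1) rfl
    obtain ⟨z, hz⟩ := exists_cycle P R f hf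
    exact ⟨(homCx P R).homologyπ n z, (homologyToExt_π P R n z).trans (extMk_congr P R _ _ hz)⟩

theorem homologyToExt_naturality {Y' : C} (R' : InjectiveResolution Y') {g : Y ⟶ Y'}
    (φ : InjectiveResolution.Hom R R' g) (n : ℕ) :
    HomologicalComplex.homologyMap (((preadditiveCoyoneda.obj (op P)).mapHomologicalComplex _).map φ.hom) n ≫
        homologyToExt P R' n =
      homologyToExt P R n ≫ (extFunctorObj P n).map g := by
  refine (cancel_epi ((homCx P R).homologyπ n)).1 ?_
  rw [HomologicalComplex.homologyπ_naturality_assoc]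
  erw [homologyπ_homologyToExt, reassoc_of% (homologyπ_homologyToExt P R n)]
  ext z
  refine Eq.trans (extMk_congr P R' (g := cycHom P R n z ≫ φ.hom.f n) (cycHom_d P R' n _) ?_ ?_)
    (InjectiveResolution.extMk_comp_mk₀ _ _ _ (cycHom_d P R n z) φ).symm
  · rw [Category.assoc, HomologicalComplex.Hom.comm, reassoc_of% (cycHom_d P R n z), zero_comp]
  · exact ConcreteCategory.congr_hom (HomologicalComplex.cyclesMap_i
      (((preadditiveCoyoneda.obj (op P)).mapHomologicalComplex _).map φ.hom) n) z

end

/-- `R^n Hom(P, -) ≅ Ext^n(P, -)`. -/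
noncomputable def rightDerivedIso [HasInjectiveResolutions C] (n : ℕ) :
    (preadditiveCoyoneda.obj (op P)).rightDerived n ≅ extFunctorObj P n :=
  NatIso.ofComponents
    (fun Y => (injectiveResolution Y).isoRightDerivedObj _ n ≪≫
      @asIso _ _ _ _ (homologyToExt P (injectiveResolution Y) n)
        ((ConcreteCategory.isIso_iff_bijective _).2 (homologyToExt_bijective P (injectiveResolution Y) n)))
    (fun {Y Y'} f => by
      let φ := InjectiveResolution.desc f (injectiveResolution Y') (injectiveResolution Y)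
      have hφ : (injectiveResolution Y).ι.f 0 ≫ φ.f 0 = f ≫ (injectiveResolution Y').ι.f 0 :=
        InjectiveResolution.desc_commutes_zero f _ _
      have hnat := InjectiveResolution.isoRightDerivedObj_hom_naturality f (injectiveResolution Y)
        (injectiveResolution Y') φ hφ (preadditiveCoyoneda.obj (op P)) n
      have key := homologyToExt_naturality P (injectiveResolution Y) (injectiveResolution Y') (g := f)
        ⟨φ, by rw [CochainComplex.single₀_map_f_zero]; exact hφ⟩ n
      simp only [Iso.trans_hom]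
      rw [reassoc_of% hnat, Category.assoc]
      congr 1)

end Groth.Agent.DerExt
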