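import Mathlib

/-!
Right derived functors of a composite whose first factor is exact and preserves injectives.
-/

set_option autoImplicit false

universe v₁ v₂ v₃ u₁ u₂ u₃

open CategoryTheory CategoryTheory.Limits

namespace Groth.Agent.DerExt

variable {A : Type u₁} [Category.{v₁} A] [Abelian A] {B : Type u₂} [Category.{v₂} B] [Abelian B]
  {D : Type u₃} [Category.{v₃} D] [Abelian D] (G : A ⥤ B) [G.Additive] [G.PreservesHomology]
  [G.PreservesInjectiveObjects]

/-- The image of an injective resolution. -/
noncomputable def mapResolution {Y : A} (R : InjectiveResolution Y) : InjectiveResolution (G.obj Y) where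
  cocomplex := (G.mapHomologicalComplex (ComplexShape.up ℕ)).obj R.cocomplex
  injective n := G.injective_obj_of_injective (R.injective n)
  ι := ((HomologicalComplex.singleMapHomologicalComplex G (ComplexShape.up ℕ) 0).app Y).inv ≫
    (G.mapHomologicalComplex (ComplexShape.up ℕ)).map R.ι

theorem mapResolution_ι_f {Y : A} (R : InjectiveResolution Y) :
    (mapResolution G R).ι.f 0 = G.map (R.ι.f 0) := by
  simp [mapResolution, HomologicalComplex.singleObjXSelf, HomologicalComplex.singleObjXIsoOfEq]
  exact Category.id_comp _

variable (F : B ⥤ D) [F.Additive] [HasInjectiveResolutions A] [HasInjectiveResolutions B]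

/-- `R^n (G ⋙ F) ≅ G ⋙ R^n F`. -/
noncomputable def rightDerivedCompIso (n : ℕ) : (G ⋙ F).rightDerived n ≅ G ⋙ F.rightDerived n :=
  NatIso.ofComponents
    (fun Y => (injectiveResolution Y).isoRightDerivedObj (G ⋙ F) n ≪≫
      ((mapResolution G (injectiveResolution Y)).isoRightDerivedObj F n).symm)
    (fun {Y Y'} f => by
      let φ := InjectiveResolution.desc f (injectiveResolution Y') (injectiveResolution Y)
      have hφ : (injectiveResolution Y).ι.f 0 ≫ φ.f 0 = f ≫ (injectiveResolution Y').ι.f 0 :=
        InjectiveResolution.desc_commutes_zero f _ _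
      have hnat := InjectiveResolution.isoRightDerivedObj_hom_naturality f (injectiveResolution Y)
        (injectiveResolution Y') φ hφ (G ⋙ F) n
      have hψ : (mapResolution G (injectiveResolution Y)).ι.f 0 ≫
          ((G.mapHomologicalComplex _).map φ).f 0 =
          G.map f ≫ (mapResolution G (injectiveResolution Y')).ι.f 0 := by
        rw [mapResolution_ι_f, mapResolution_ι_f]
        exact ((G.map_comp _ _).symm.trans (congrArg G.map hφ)).trans (G.map_comp _ _)
      have h2 := InjectiveResolution.isoRightDerivedObj_inv_naturality (G.map f)
        (mapResolution G (injectiveResolution Y)) (mapResolution G (injectiveResolution Y'))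
        ((G.mapHomologicalComplex _).map φ) hψ F n
      refine ((reassoc_of% hnat) _).trans (Eq.trans ?_ (Category.assoc _ _ _).symm)
      exact congrArg (fun e => ((injectiveResolution Y).isoRightDerivedObj (G ⋙ F) n).hom ≫ e) h2.symm)

end Groth.Agent.DerExt
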