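import Mathlib

/-!
Right derived functors along natural sequences `F₁ → 𝟭 → F₃` that are short exact on injectives.
-/

set_option autoImplicit false

universe v u

open CategoryTheory CategoryTheory.Limits

namespace Groth.Agent.DerExt

variable {A : Type u} [Category.{v} A] [Abelian A] {F₁ F₃ : A ⥤ A} [F₁.Additive] [F₃.Additive]
  (α : F₁ ⟶ 𝟭 A) (β : 𝟭 A ⟶ F₃) (w : ∀ Y, α.app Y ≫ β.app Y = 0)

/-- `F₁ K → K → F₃ K`. -/
noncomputable def tripleCx : CochainComplex A ℕ ⥤ ShortComplex (CochainComplex A ℕ) where
  obj K := ShortComplex.mk ((NatTrans.mapHomologicalComplex α (ComplexShape.up ℕ)).app K)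
    ((NatTrans.mapHomologicalComplex β (ComplexShape.up ℕ)).app K) (by
      ext n
      exact w (K.X n))
  map φ := ShortComplex.homMk ((F₁.mapHomologicalComplex _).map φ) (((𝟭 A).mapHomologicalComplex _).map φ)
    ((F₃.mapHomologicalComplex _).map φ)
    ((NatTrans.mapHomologicalComplex α (ComplexShape.up ℕ)).naturality φ)
    ((NatTrans.mapHomologicalComplex β (ComplexShape.up ℕ)).naturality φ)
  map_id K := by
    apply ShortComplex.hom_ext
    all_goals simp only [ShortComplex.homMk_τ₁, ShortComplex.homMk_τ₂, ShortComplex.homMk_τ₃, ShortComplex.id_τ₁,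
      ShortComplex.id_τ₂, ShortComplex.id_τ₃, CategoryTheory.Functor.map_id]
  map_comp φ ψ := by
    apply ShortComplex.hom_ext
    all_goals simp only [ShortComplex.homMk_τ₁, ShortComplex.homMk_τ₂, ShortComplex.homMk_τ₃, ShortComplex.comp_τ₁,
      ShortComplex.comp_τ₂, ShortComplex.comp_τ₃, Functor.map_comp]

omit [F₁.Additive] [F₃.Additive] in
theorem comp_inv_comp_hom {W X Y Z : A} (a : W ⟶ X) (b : X ⟶ Y) (c : Z ≅ Y) :
    (a ≫ b ≫ c.inv) ≫ c.hom = a ≫ b := by simp

variable (hse : ∀ (I : A) [Injective I], (ShortComplex.mk (α.app I) (β.app I) (w I)).ShortExact)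

include hse

theorem tripleCx_shortExact {Y : A} (J : InjectiveResolution Y) :
    ((tripleCx α β w).obj J.cocomplex).ShortExact :=
  HomologicalComplex.shortExact_of_degreewise_shortExact _ fun n => @hse (J.cocomplex.X n) (J.injective n)

theorem isZero_homology_middle {Y : A} (J : InjectiveResolution Y) (k : ℕ) :
    IsZero (((tripleCx α β w).obj J.cocomplex).X₂.homology (k + 1)) :=
  ((HomologicalComplex.exactAt_iff_isZero_homology _ _).1 (J.cocomplex_exactAt_succ k)).of_iso
    ((HomologicalComplex.homologyFunctor _ _ (k + 1)).mapIso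
      ((Functor.mapHomologicalComplexIdIso A (ComplexShape.up ℕ)).app J.cocomplex))

variable [HasInjectiveResolutions A]

/-- `R^(k+1) F₃ ≅ R^(k+2) F₁`. -/
noncomputable def derivedShiftIso (k : ℕ) : F₃.rightDerived (k + 1) ≅ F₁.rightDerived (k + 2) :=
  NatIso.ofComponents
    (fun Y => (injectiveResolution Y).isoRightDerivedObj F₃ (k + 1) ≪≫
      (tripleCx_shortExact α β w hse (injectiveResolution Y)).δIso (k + 1) (k + 2) rfl
        (isZero_homology_middle α β w hse _ k) (isZero_homology_middle α β w hse _ (k + 1)) ≪≫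
      ((injectiveResolution Y).isoRightDerivedObj F₁ (k + 2)).symm)
    (fun {Y Y'} f => by
      let φ := InjectiveResolution.desc f (injectiveResolution Y') (injectiveResolution Y)
      have hφ : (injectiveResolution Y).ι.f 0 ≫ φ.f 0 = f ≫ (injectiveResolution Y').ι.f 0 :=
        InjectiveResolution.desc_commutes_zero f _ _
      have h1 := InjectiveResolution.isoRightDerivedObj_hom_naturality f (injectiveResolution Y)
        (injectiveResolution Y') φ hφ F₃ (k + 1)
      have h2 := InjectiveResolution.isoRightDerivedObj_inv_naturality f (injectiveResolution Y)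
        (injectiveResolution Y') φ hφ F₁ (k + 2)
      have key : HomologicalComplex.homologyMap ((tripleCx α β w).map φ).τ₃ (k + 1) ≫
            (tripleCx_shortExact α β w hse (injectiveResolution Y')).δ (k + 1) (k + 2) rfl =
          (tripleCx_shortExact α β w hse (injectiveResolution Y)).δ (k + 1) (k + 2) rfl ≫
            HomologicalComplex.homologyMap ((tripleCx α β w).map φ).τ₁ (k + 2) :=
        (HomologicalComplex.HomologySequence.δ_naturality ((tripleCx α β w).map φ)
          (tripleCx_shortExact α β w hse _) (tripleCx_shortExact α β w hse _) (k + 1) (k + 2) rfl).symm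
      simp only [Iso.trans_hom, Iso.symm_hom, Category.assoc]
      rw [reassoc_of% h1]
      erw [reassoc_of% key]
      congr 2
      exact h2.symm)

/-- The connecting map `R^0 F₃ ⟶ R^1 F₁`. -/
noncomputable def derivedδ : F₃.rightDerived 0 ⟶ F₁.rightDerived 1 where
  app Y := ((injectiveResolution Y).isoRightDerivedObj F₃ 0).hom ≫
    (tripleCx_shortExact α β w hse (injectiveResolution Y)).δ 0 1 rfl ≫
    ((injectiveResolution Y).isoRightDerivedObj F₁ 1).inv
  naturality {Y Y'} f := by
    let φ := InjectiveResolution.desc f (injectiveResolution Y') (injectiveResolution Y)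
    have hφ : (injectiveResolution Y).ι.f 0 ≫ φ.f 0 = f ≫ (injectiveResolution Y').ι.f 0 :=
      InjectiveResolution.desc_commutes_zero f _ _
    have h1 := InjectiveResolution.isoRightDerivedObj_hom_naturality f (injectiveResolution Y)
      (injectiveResolution Y') φ hφ F₃ 0
    have h2 := InjectiveResolution.isoRightDerivedObj_inv_naturality f (injectiveResolution Y)
      (injectiveResolution Y') φ hφ F₁ 1
    have key : HomologicalComplex.homologyMap ((tripleCx α β w).map φ).τ₃ 0 ≫
          (tripleCx_shortExact α β w hse (injectiveResolution Y')).δ 0 1 rfl =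
        (tripleCx_shortExact α β w hse (injectiveResolution Y)).δ 0 1 rfl ≫
          HomologicalComplex.homologyMap ((tripleCx α β w).map φ).τ₁ 1 :=
      (HomologicalComplex.HomologySequence.δ_naturality ((tripleCx α β w).map φ)
        (tripleCx_shortExact α β w hse _) (tripleCx_shortExact α β w hse _) 0 1 rfl).symm
    simp only [Category.assoc]
    rw [reassoc_of% h1]
    erw [reassoc_of% key]
    congr 2
    exact h2.symm

theorem rightDerivedβ_derivedδ (Y : A) :
    (NatTrans.rightDerived β 0).app Y ≫ (derivedδ α β w hse).app Y = 0 := by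
  rw [(injectiveResolution Y).rightDerived_app_eq β 0]
  change ((_ ≫ _ ≫ _) ≫ _ ≫ _ ≫ _) = 0
  simp only [Category.assoc, Iso.inv_hom_id_assoc]
  erw [reassoc_of% ((tripleCx_shortExact α β w hse (injectiveResolution Y)).comp_δ 0 1 rfl)]
  simp
  rfl

theorem isIso_cokernelDesc (Y : A) :
    IsIso (cokernel.desc ((NatTrans.rightDerived β 0).app Y) ((derivedδ α β w hse).app Y)
      (rightDerivedβ_derivedδ α β w hse Y)) := by
  have hS := tripleCx_shortExact α β w hse (injectiveResolution Y)
  have : Epi (hS.δ 0 1 rfl) := (hS.homology_exact₁ 0 1 rfl).epi_f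
    ((isZero_homology_middle α β w hse _ 0).eq_of_tgt _ _)
  let S := ShortComplex.mk _ _ (rightDerivedβ_derivedδ α β w hse Y)
  let e : S ≅ ShortComplex.mk _ _ (hS.comp_δ 0 1 rfl) :=
    ShortComplex.isoMk ((injectiveResolution Y).isoRightDerivedObj (𝟭 A) 0)
      ((injectiveResolution Y).isoRightDerivedObj F₃ 0) ((injectiveResolution Y).isoRightDerivedObj F₁ 1)
      (by
        change _ = (NatTrans.rightDerived β 0).app Y ≫ _
        rw [(injectiveResolution Y).rightDerived_app_eq β 0]
        exact (comp_inv_comp_hom _ _ _).symm)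
      (by
        change _ = (_ ≫ _ ≫ _) ≫ _
        exact (comp_inv_comp_hom _ _ _).symm)
  have : Epi S.g := epi_comp' inferInstance (epi_comp' this inferInstance)
  have hex : S.Exact := ShortComplex.exact_of_iso e.symm (hS.homology_exact₃ 0 1 rfl)
  have hc := hex.gIsCokernel
  have hd : cokernel.desc S.f S.g S.zero = ((cokernelIsCokernel S.f).coconePointUniqueUpToIso hc).hom :=
    coequalizer.hom_ext ((cokernel.π_desc _ _ _).trans
      ((cokernelIsCokernel S.f).comp_coconePointUniqueUpToIso_hom hc WalkingParallelPair.one).symm)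
  change IsIso (cokernel.desc S.f S.g S.zero)
  rw [hd]
  exact inferInstance

omit hse in
theorem toRightDerivedZero_naturality_natTrans {G H : A ⥤ A} [G.Additive] [H.Additive] (γ : G ⟶ H) (Y : A) :
    γ.app Y ≫ H.toRightDerivedZero.app Y = G.toRightDerivedZero.app Y ≫ (NatTrans.rightDerived γ 0).app Y := by
  have P := injectiveResolution Y
  rw [P.toRightDerivedZero_eq H, P.toRightDerivedZero_eq G, P.rightDerived_app_eq γ 0]
  simp only [Category.assoc, Iso.inv_hom_id_assoc]
  have h : γ.app Y ≫ P.toRightDerivedZero' H = P.toRightDerivedZero' G ≫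
      HomologicalComplex.cyclesMap ((NatTrans.mapHomologicalComplex γ _).app P.cocomplex) 0 := by
    rw [← cancel_mono (HomologicalComplex.iCycles _ _), Category.assoc, Category.assoc,
      InjectiveResolution.toRightDerivedZero'_comp_iCycles, HomologicalComplex.cyclesMap_i,
      InjectiveResolution.toRightDerivedZero'_comp_iCycles_assoc]
    exact (γ.naturality _).symm
  rw [reassoc_of% h]
  erw [Iso.inv_hom_id_assoc]
  congr 1
  exact (HomologicalComplex.homologyπ_naturality_assoc ((NatTrans.mapHomologicalComplex γ _).app P.cocomplex) 0 _).symm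

/-- `R^1 F₁ ≅ coker (𝟭 → F₃)`. -/
theorem nonempty_derivedOneIso [PreservesFiniteLimits F₃] :
    Nonempty (F₁.rightDerived 1 ≅ cokernel β) := by
  have h0 : NatTrans.rightDerived β 0 ≫ derivedδ α β w hse = 0 := by
    ext Y : 2
    exact rightDerivedβ_derivedδ α β w hse Y
  let e1 : cokernel (NatTrans.rightDerived β 0) ≅ F₁.rightDerived 1 := by
    refine @asIso _ _ _ _ (cokernel.desc _ _ h0) (@NatIso.isIso_of_isIso_app _ _ _ _ _ _ _ (fun Y => ?_))
    let c := PreservesCokernel.iso ((evaluation A A).obj Y) (NatTrans.rightDerived β 0)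
    have hc : c.inv ≫ (cokernel.desc _ _ h0).app Y =
        cokernel.desc ((NatTrans.rightDerived β 0).app Y) ((derivedδ α β w hse).app Y)
          (rightDerivedβ_derivedδ α β w hse Y) := by
      refine coequalizer.hom_ext (Eq.trans ?_ (cokernel.π_desc _ _ _).symm)
      refine ((Category.assoc _ _ _).symm.trans
        (congrArg (fun a => a ≫ (cokernel.desc _ _ h0).app Y)
          ((congrArg (fun a => cokernel.π _ ≫ a) (PreservesCokernel.iso_inv _ _)).trans (π_comp_cokernelComparison _ ((evaluation A A).obj Y))))).trans ?_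
      exact (NatTrans.comp_app _ _ Y).symm.trans (congrArg (fun a => a.app Y) (cokernel.π_desc _ _ h0))
    have := isIso_cokernelDesc α β w hse Y
    rw [← hc] at this
    exact IsIso.of_isIso_comp_left c.inv _
  let e2 : cokernel β ≅ cokernel (NatTrans.rightDerived β 0) :=
    cokernel.mapIso _ _ (asIso (𝟭 A).toRightDerivedZero) (asIso F₃.toRightDerivedZero) (by
      ext Y : 2
      exact toRightDerivedZero_naturality_natTrans β Y)
  exact ⟨(e2 ≪≫ e1).symm⟩

end Groth.Agent.DerExt
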